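import Groth.Agent.K0Perf.Basic
import Groth.Agent.ResPerf.Roofs
import Groth.Agent.ResDesc.ResProp
import Groth.Agent.S2336

/-!
`K₀` of perfect objects over schemes with the resolution property and over rings.
-/

set_option autoImplicit false
set_option backward.isDefEq.respectTransparency false
set_option backward.isDefEq.respectTransparency.types false
set_option linter.style.haveILetI false
set_option maxHeartbeats 1000000

universe u

open CategoryTheory Limits AlgebraicGeometry HomologicalComplex
open KZero (clSub K0sub clTr K0tr)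

attribute [local instance] HasDerivedCategory.standard

noncomputable section

namespace Groth.Agent.K0Perf

theorem hyp_scheme {X : Scheme.{u}} [CompactSpace X] [QuasiSeparatedSpace X]
    (hX : PerfAux.HasResolutionProperty X) :
    Hyp (fun M : X.Modules => FlatMod.IsFinLocFree M) (fun K : DCoh.D X => DCoh.IsPerfect K) where
  zero h := DQCoh.isFinLocFree_of_isZero h
  iso e h := DQCoh.isFinLocFree_of_iso' e h
  biprod h h' := DQCoh.isFinLocFree_biprod h h'
  ker hS h h' := ResPerf.isFinLocFree_X₁ hS h h'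
  riso e h := DQCoh.perfect_of_iso e h
  obj hE := ResPerf.isPerfect_of_isStrictlyPerfect hE
  rep K hK := ResPerf.exists_isStrictlyPerfect_iso hX K hK
  roof hE hF α := ResPerf.exists_roof hX _ _ hE hF α

variable (R : Type u) [CommRing R]

/-- finite projective modules -/
abbrev FP : ObjectProperty (ModuleCat.{u} R) := fun M => Module.Finite R M ∧ Module.Projective R M

lemma fp_iso {M N : ModuleCat.{u} R} (e : M ≅ N) (h : FP R M) : FP R N := by
  obtain ⟨h1, h2⟩ := h
  exact ⟨Module.Finite.equiv e.toLinearEquiv, Module.Projective.of_equiv e.toLinearEquiv⟩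

lemma fp_zero {M : ModuleCat.{u} R} (h : IsZero M) : FP R M := by
  haveI := ModuleCat.subsingleton_of_isZero h
  exact ⟨inferInstance, inferInstance⟩

lemma fp_biprod {M N : ModuleCat.{u} R} (h : FP R M) (h' : FP R N) : FP R (M ⊞ N) := by
  obtain ⟨h1, h2⟩ := h
  obtain ⟨h3, h4⟩ := h'
  exact fp_iso R (ModuleCat.biprodIsoProd M N).symm ⟨inferInstanceAs (Module.Finite R (M × N)),
    inferInstanceAs (Module.Projective R (M × N))⟩

lemma fp_ker {S : ShortComplex (ModuleCat.{u} R)} (hS : S.ShortExact) (h₂ : FP R S.X₂) (h₃ : FP R S.X₃) :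
    FP R S.X₁ := by
  obtain ⟨h1, h2⟩ := h₂
  haveI := h₃.2
  haveI : Projective S.X₃ := (IsProjective.iff_projective S.X₃).1 h₃.2
  haveI := hS.epi_g
  haveI := hS.mono_f
  let s := ShortComplex.Splitting.ofExactOfSection S hS.exact (Projective.factorThru (𝟙 _) S.g)
    (Projective.factorThru_comp _ _) hS.mono_f
  have h : s.r.hom.comp S.f.hom = LinearMap.id := congrArg ModuleCat.Hom.hom s.f_r
  refine ⟨Module.Finite.of_surjective s.r.hom fun x => ⟨S.f.hom x, LinearMap.congr_fun h x⟩, ?_⟩
  exact Module.Projective.of_split S.f.hom s.r.hom h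

theorem hyp_ring : Hyp (FP R) (fun K : Dual.D R => DRing.IsPerfect R K) where
  zero h := fp_zero R h
  iso e h := fp_iso R e h
  biprod h h' := fp_biprod R h h'
  ker hS h h' := fp_ker R hS h h'
  riso e h := let ⟨E, a, b, hv, hp, ⟨i⟩⟩ := h; ⟨E, a, b, hv, hp, ⟨i ≪≫ e⟩⟩
  obj hE := let ⟨⟨a, b, hv⟩, hp⟩ := hE; ⟨_, a, b, hv, hp, ⟨Iso.refl _⟩⟩
  rep K hK := let ⟨E, a, b, hv, hp, hi⟩ := hK; ⟨E, ⟨⟨a, b, hv⟩, hp⟩, hi⟩
  roof := by
    intro E F hE hF α
    obtain ⟨⟨a, b, hab⟩, hl⟩ := id hE
    haveI : E.IsStrictlyLE b := (CochainComplex.isStrictlyLE_iff E b).2 fun i hi => hab i (Or.inr hi)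
    haveI : ∀ n, Projective (E.X n) := fun n => (IsProjective.iff_projective (E.X n)).1 (hl n).2
    haveI := CochainComplex.isKProjective_of_projective E b
    let eq := DerivedCategory.quotientCompQhIso (ModuleCat.{u} R)
    obtain ⟨g, hg⟩ := (CochainComplex.IsKProjective.Qh_map_bijective E ((HomotopyCategory.quotient _ _).obj F)).2
      (eq.hom.app E ≫ α ≫ eq.inv.app F)
    obtain ⟨f, rfl⟩ := (HomotopyCategory.quotient _ _).map_surjective g
    refine ⟨E, 𝟙 E, f, hE, inferInstance, ?_⟩
    rw [CategoryTheory.Functor.map_id, Category.id_comp]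
    have := eq.hom.naturality f
    simp only [Functor.comp_map] at this
    rw [hg, Category.assoc, Category.assoc, Iso.inv_hom_id_app, Category.comp_id] at this
    exact (cancel_epi _).1 this

/-- affine schemes have the resolution property -/
theorem hasResolutionProperty_of_isAffine (X : Scheme.{u}) [IsAffine X] : PerfAux.HasResolutionProperty X :=
  ResDesc.hasResolutionProperty_of_isAmple _ ((Groth.Agent.S2336.result X).1 inferInstance)

end Groth.Agent.K0Perf
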