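import Groth.Prelude.Def_KZero
import Groth.Agent.PerfLocal.K0
import Groth.Agent.ProjForm.Stupid
import Groth.Agent.K0DerSub.Basic
import Mathlib.Algebra.Homology.DerivedCategory.TStructure
import Mathlib.Algebra.BigOperators.Finprod

/-!
`K₀` of perfect objects is `K₀` of the exact category of "vector bundles", given roofs of chain maps.
-/

set_option autoImplicit false
set_option backward.isDefEq.respectTransparency false
set_option backward.isDefEq.respectTransparency.types false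
set_option linter.style.haveILetI false
set_option maxHeartbeats 1000000

universe v u

open CategoryTheory Limits Pretriangulated HomologicalComplex ZeroObject
open KZero (clSub K0sub clTr K0tr)

attribute [local instance] HasDerivedCategory.standard

noncomputable section

namespace Groth.Agent.K0Perf

variable {A : Type u} [Category.{v} A] [Abelian A]

/-- bounded complexes with terms in `V` -/
def Cplx (V : ObjectProperty A) (E : CochainComplex A ℤ) : Prop :=
  (∃ a b : ℤ, ∀ i, i < a ∨ b < i → IsZero (E.X i)) ∧ ∀ i, V (E.X i)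

/-- the hypotheses -/
structure Hyp (V : ObjectProperty A) (R : ObjectProperty (DerivedCategory A)) : Prop where
  zero : ∀ {M : A}, IsZero M → V M
  iso : ∀ {M N : A}, (M ≅ N) → V M → V N
  biprod : ∀ {M N : A}, V M → V N → V (M ⊞ N)
  ker : ∀ {S : ShortComplex A}, S.ShortExact → V S.X₂ → V S.X₃ → V S.X₁
  riso : ∀ {K L : DerivedCategory A}, (K ≅ L) → R K → R L
  obj : ∀ {E : CochainComplex A ℤ}, Cplx V E → R (DerivedCategory.Q.obj E)
  rep : ∀ K, R K → ∃ E : CochainComplex A ℤ, Cplx V E ∧ Nonempty (DerivedCategory.Q.obj E ≅ K)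
  roof : ∀ {E F : CochainComplex A ℤ}, Cplx V E → Cplx V F →
    ∀ α : DerivedCategory.Q.obj E ⟶ DerivedCategory.Q.obj F,
      ∃ (G : CochainComplex A ℤ) (g : G ⟶ E) (h : G ⟶ F), Cplx V G ∧ QuasiIso g ∧
        DerivedCategory.Q.map g ≫ α = DerivedCategory.Q.map h

variable {V : ObjectProperty A}

lemma cl_zero (hz : ∀ {M : A}, IsZero M → V M) {Z : A} (hZ : IsZero Z) : clSub V Z = 0 := by
  have h := K0DerSub.cl_add (P := V) (S := ShortComplex.mk (𝟙 Z) (𝟙 Z) (hZ.eq_of_src _ _))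
    { exact := ShortComplex.exact_of_isZero_X₂ _ hZ } (hz hZ) (hz hZ) (hz hZ)
  exact left_eq_add.1 h

lemma cl_iso (hz : ∀ {M : A}, IsZero M → V M) (hi : ∀ {M N : A}, (M ≅ N) → V M → V N) {X Y : A} (e : X ≅ Y)
    (hX : V X) : clSub V Y = clSub V X := by
  have h := K0DerSub.cl_add (P := V) (S := ShortComplex.mk e.hom (0 : Y ⟶ 0) comp_zero)
    { exact := (ShortComplex.mk e.hom (0 : Y ⟶ 0) comp_zero).exact_iff_epi rfl |>.2 inferInstance
      mono_f := inferInstanceAs (Mono e.hom)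
      epi_g := ⟨fun a b _ => (isZero_zero A).eq_of_src a b⟩ }
    hX (hi e hX) (hz (isZero_zero A))
  rw [cl_zero hz (isZero_zero A), add_zero] at h
  exact h

lemma cl_biprod {M N : A} (hM : V M) (hN : V N) (h : V (M ⊞ N)) :
    clSub V (M ⊞ N) = clSub V M + clSub V N :=
  K0DerSub.cl_add (P := V) (ShortComplex.Splitting.ofHasBinaryBiproduct M N).shortExact hM h hN

/-- Euler characteristic -/
def χ (V : ObjectProperty A) (E : CochainComplex A ℤ) : K0sub V :=
  ∑ᶠ i : ℤ, (i.negOnePow : ℤ) • clSub V (E.X i)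

lemma finite_support {c : ℤ → K0sub V} {a b : ℤ} (h : ∀ i, i < a ∨ b < i → c i = 0) :
    (Function.support fun i => (i.negOnePow : ℤ) • c i).Finite :=
  (Set.finite_Icc a b).subset fun i hi => by
    by_contra hh
    simp only [Set.mem_Icc, not_and_or, not_le] at hh
    exact hi (by simp [h i hh])

lemma sum_shift (c : ℤ → K0sub V) :
    (∑ᶠ i : ℤ, (i.negOnePow : ℤ) • c (i + 1)) = -∑ᶠ i : ℤ, (i.negOnePow : ℤ) • c i := by
  rw [← finsum_neg_distrib]
  conv_rhs => rw [← finsum_comp_equiv (Equiv.addRight (1 : ℤ))]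
  exact finsum_congr fun i => by simp [Int.negOnePow_succ]

variable {R : ObjectProperty (DerivedCategory A)} (H : Hyp V R)

include H

lemma cplx_single (k : ℤ) {M : A} (hM : V M) : Cplx V ((single A (ComplexShape.up ℤ) k).obj M) := by
  refine ⟨⟨k, k, fun i hi => isZero_single_obj_X _ _ _ _ (by omega)⟩, fun i => ?_⟩
  by_cases h : i = k
  · subst h
    exact H.iso (singleObjXSelf (ComplexShape.up ℤ) i M).symm hM
  · exact H.zero (isZero_single_obj_X _ _ _ _ h)

lemma cplx_cone {E F : CochainComplex A ℤ} (φ : E ⟶ F) (hE : Cplx V E) (hF : Cplx V F) :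
    Cplx V (CochainComplex.mappingCone φ) := by
  obtain ⟨⟨a, b, hab⟩, hl⟩ := hE
  obtain ⟨⟨a', b', hab'⟩, hl'⟩ := hF
  exact ⟨⟨min (a - 1) a', max b b', fun i hi => IsZero.of_iso
    (biprod_isZero_iff _ _ |>.2 ⟨hab (i + 1) (by omega), hab' i (by omega)⟩)
    (homotopyCofiber.XIsoBiprod φ i (i + 1) rfl)⟩, fun i =>
      H.iso (homotopyCofiber.XIsoBiprod φ i (i + 1) rfl).symm (H.biprod (hl _) (hl' _))⟩

lemma χ_cone {E F : CochainComplex A ℤ} (φ : E ⟶ F) (hE : Cplx V E) (hF : Cplx V F) :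
    χ V (CochainComplex.mappingCone φ) = χ V F - χ V E := by
  obtain ⟨⟨a, b, hab⟩, hl⟩ := hE
  obtain ⟨⟨a', b', hab'⟩, hl'⟩ := hF
  have h : ∀ i, clSub V ((CochainComplex.mappingCone φ).X i) = clSub V (E.X (i + 1)) + clSub V (F.X i) := fun i => by
    rw [← cl_biprod (hl _) (hl' _) (H.biprod (hl _) (hl' _))]
    exact cl_iso H.zero H.iso (homotopyCofiber.XIsoBiprod φ i (i + 1) rfl).symm (H.biprod (hl _) (hl' _))
  simp only [χ, h, smul_add]
  rw [finsum_add_distrib (finite_support (a := a - 1) (b := b) fun i hi => cl_zero H.zero (hab _ (by omega)))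
    (finite_support (a := a') (b := b') fun i hi => cl_zero H.zero (hab' _ hi)),
    sum_shift fun i => clSub V (E.X i)]
  abel

lemma χ_single (k : ℤ) {M : A} (hM : V M) :
    χ V ((single A (ComplexShape.up ℤ) k).obj M) = (k.negOnePow : ℤ) • clSub V M := by
  rw [χ, finsum_eq_single _ k fun i hi => by rw [cl_zero H.zero (isZero_single_obj_X _ _ _ _ hi), smul_zero]]
  exact congrArg ((k.negOnePow : ℤ) • ·)
    (cl_iso H.zero H.iso (singleObjXSelf (ComplexShape.up ℤ) k M).symm hM)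

lemma χ_acyclic {E : CochainComplex A ℤ} (hE : Cplx V E) (hz : ∀ i, IsZero (E.homology i)) : χ V E = 0 := by
  obtain ⟨⟨a, b, hab⟩, hl⟩ := hE
  let S : ℤ → ShortComplex A := fun i => ShortComplex.mk (E.iCycles i) (E.toCycles i (i + 1)) (by
    rw [← cancel_mono (E.iCycles (i + 1)), Category.assoc, toCycles_i, iCycles_d, zero_comp])
  have hS : ∀ i, (S i).ShortExact := fun i => by
    haveI : Epi (S i).g := Preadditive.epi_of_isZero_cokernel' _
      (E.homologyIsCokernel i (i + 1) (by simp)) (hz (i + 1))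
    refine { exact := ?_, mono_f := inferInstanceAs (Mono (E.iCycles i)), epi_g := inferInstance }
    let S' := ShortComplex.mk (E.iCycles i) (E.d i (i + 1)) (E.iCycles_d i (i + 1))
    let f : S i ⟶ S' :=
      { τ₁ := 𝟙 _
        τ₂ := 𝟙 _
        τ₃ := E.iCycles (i + 1)
        comm₁₂ := by simp [S, S']
        comm₂₃ := by simp [S, S'] }
    haveI : Epi f.τ₁ := inferInstanceAs (Epi (𝟙 _))
    haveI : IsIso f.τ₂ := inferInstanceAs (IsIso (𝟙 _))
    haveI : Mono f.τ₃ := inferInstanceAs (Mono (E.iCycles (i + 1)))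
    exact (ShortComplex.exact_iff_of_epi_of_isIso_of_mono f).2
      (ShortComplex.exact_of_f_is_kernel S' (E.cyclesIsKernel i (i + 1) (by simp)))
  have hzc : ∀ i, i < a ∨ b < i → IsZero (E.cycles i) := fun i hi => IsZero.of_mono (E.iCycles i) (hab i hi)
  have hc : ∀ i, V (E.cycles i) := by
    suffices ∀ (n : ℕ) (i : ℤ), b < i + n → V (E.cycles i) from fun i => this ((b - i).toNat + 1) i (by omega)
    intro n
    induction n with
    | zero => exact fun i h => H.zero (hzc i (Or.inr (by simpa using h)))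
    | succ n ih => exact fun i h => H.ker (hS i) (hl i) (ih (i + 1) (by omega))
  have h : ∀ i, clSub V (E.X i) = clSub V (E.cycles i) + clSub V (E.cycles (i + 1)) := fun i =>
    K0DerSub.cl_add (P := V) (hS i) (hc i) (hl i) (hc (i + 1))
  simp only [χ, h, smul_add]
  rw [finsum_add_distrib (finite_support (a := a) (b := b) fun i hi => cl_zero H.zero (hzc i hi))
    (finite_support (a := a - 1) (b := b) fun i hi => cl_zero H.zero (hzc _ (by omega))),
    sum_shift fun i => clSub V (E.cycles i), add_neg_cancel]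

lemma χ_of_qis {E F : CochainComplex A ℤ} (g : E ⟶ F) (hE : Cplx V E) (hF : Cplx V F)
    (hg : IsIso ((DerivedCategory.Q : _ ⥤ DerivedCategory A).map g)) : χ V E = χ V F := by
  have hz : IsZero (DerivedCategory.Q.obj (CochainComplex.mappingCone g)) :=
    (Triangle.isZero₃_iff_isIso₁ _ (DerivedCategory.mappingCone_triangle_distinguished g)).2 hg
  have h := χ_acyclic H (cplx_cone H g hE hF) fun i =>
    ((DerivedCategory.homologyFunctor A i).map_isZero hz).of_iso
      ((DerivedCategory.homologyFunctorFactors A i).app _).symm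
  rw [χ_cone H g hE hF] at h
  exact (sub_eq_zero.1 h).symm

lemma χ_of_iso {E F : CochainComplex A ℤ} (hE : Cplx V E) (hF : Cplx V F)
    (α : DerivedCategory.Q.obj E ≅ DerivedCategory.Q.obj F) : χ V E = χ V F := by
  obtain ⟨G, g, h, hG, hg, hgh⟩ := H.roof hE hF α.hom
  haveI : IsIso ((DerivedCategory.Q : _ ⥤ DerivedCategory A).map g) :=
    (DerivedCategory.isIso_Q_map_iff_quasiIso _ g).2 hg
  rw [← χ_of_qis H g hG hE inferInstance, χ_of_qis H h hG hF (by rw [← hgh]; infer_instance)]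

omit H in
/-- the chosen value on a perfect object -/
def val (H : Hyp V R) (K : Subtype R) : K0sub V := χ V (H.rep K.1 K.2).choose

lemma val_eq {K : DerivedCategory A} (hK : R K) {E : CochainComplex A ℤ} (hE : Cplx V E)
    (e : DerivedCategory.Q.obj E ≅ K) : val H ⟨K, hK⟩ = χ V E :=
  χ_of_iso H (H.rep K hK).choose_spec.1 hE ((H.rep K hK).choose_spec.2.some ≪≫ e.symm)

lemma r_zero : R (0 : DerivedCategory A) :=
  H.riso ((DerivedCategory.Q : _ ⥤ DerivedCategory A).map_isZero (isZero_zero _)).isoZero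
    (H.obj (E := 0) ⟨⟨0, 0, fun i _ => (HomologicalComplex.eval A (ComplexShape.up ℤ) i).map_isZero (isZero_zero _)⟩,
      fun i => H.zero ((HomologicalComplex.eval A (ComplexShape.up ℤ) i).map_isZero (isZero_zero _))⟩)

lemma r_single (k : ℤ) {M : A} (hM : V M) : R ((DerivedCategory.singleFunctor A k).obj M) :=
  H.riso ((DerivedCategory.singleFunctorIsoCompQ A k).app M).symm (H.obj (cplx_single H k hM))

lemma val_add (T : Triangle (DerivedCategory A)) (hT : T ∈ distTriang (DerivedCategory A))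
    (h₁ : R T.obj₁) (h₂ : R T.obj₂) (h₃ : R T.obj₃) :
    val H ⟨T.obj₂, h₂⟩ = val H ⟨T.obj₁, h₁⟩ + val H ⟨T.obj₃, h₃⟩ := by
  obtain ⟨E, hE, ⟨a⟩⟩ := H.rep _ h₁
  obtain ⟨F, hF, ⟨b⟩⟩ := H.rep _ h₂
  obtain ⟨G, g, h, hG, hg, hgh⟩ := H.roof hE hF (a.hom ≫ T.mor₁ ≫ b.inv)
  haveI : IsIso ((DerivedCategory.Q : _ ⥤ DerivedCategory A).map g) :=
    (DerivedCategory.isIso_Q_map_iff_quasiIso _ g).2 hg
  let c : DerivedCategory.Q.obj G ≅ T.obj₁ := asIso ((DerivedCategory.Q : _ ⥤ DerivedCategory A).map g) ≪≫ a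
  let i := Pretriangulated.isoTriangleOfIso₁₂ _ T (DerivedCategory.mappingCone_triangle_distinguished h) hT c b (by
    change DerivedCategory.Q.map h ≫ b.hom = (DerivedCategory.Q.map g ≫ a.hom) ≫ T.mor₁
    rw [← hgh]; simp)
  rw [val_eq H h₁ hG c, val_eq H h₂ hF b, val_eq H h₃ (cplx_cone H h hG hF) (Triangle.π₃.mapIso i),
    χ_cone H h hG hF]
  abel

omit H in
/-- `K₀(R) → K₀(V)` -/
def ψ (H : Hyp V R) : K0tr R →+ K0sub V :=
  QuotientAddGroup.lift _ (FreeAbelianGroup.lift (val H)) (by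
    rw [KZero.relTr, AddSubgroup.closure_le]
    rintro _ ⟨T, h₁, h₂, h₃, hT, rfl⟩
    simp only [SetLike.mem_coe, AddMonoidHom.mem_ker, map_sub, FreeAbelianGroup.lift_apply_of]
    rw [sub_sub, val_add H T hT h₁ h₂ h₃, sub_self])

lemma ψ_Q {E : CochainComplex A ℤ} (hE : Cplx V E) :
    ψ H (clTr R (DerivedCategory.Q.obj E)) = χ V E := by
  simp only [clTr, dif_pos (H.obj hE), ψ, QuotientAddGroup.lift_mk, FreeAbelianGroup.lift_apply_of]
  exact val_eq H (H.obj hE) hE (Iso.refl _)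

omit H in
/-- `K₀(V) → K₀(R)` -/
def φ (H : Hyp V R) : K0sub V →+ K0tr R :=
  QuotientAddGroup.lift _
    (FreeAbelianGroup.lift fun X => clTr R ((DerivedCategory.singleFunctor A 0).obj X.1)) (by
    rw [KZero.relSub, AddSubgroup.closure_le]
    rintro _ ⟨S, h₁, h₂, h₃, hS, rfl⟩
    simp only [SetLike.mem_coe, AddMonoidHom.mem_ker, map_sub, FreeAbelianGroup.lift_apply_of]
    exact sub_sub _ _ _ |>.trans (sub_eq_zero.2
      (PerfLocal.clTr_add _ hS.singleTriangle_distinguished (r_single H 0 h₁) (r_single H 0 h₂) (r_single H 0 h₃))))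

lemma φ_cl {X : A} (hX : V X) :
    φ H (clSub V X) = clTr R ((DerivedCategory.singleFunctor A 0).obj X) := by
  rw [K0DerSub.clSub_mk hX]
  simp [φ]

lemma ψφ (x : K0sub V) : ψ H (φ H x) = x := by
  suffices h : (ψ H).comp (φ H) = AddMonoidHom.id _ from DFunLike.congr_fun h x
  refine QuotientAddGroup.addMonoidHom_ext _ (FreeAbelianGroup.lift_ext _ _ fun X => ?_)
  change ψ H (φ H (QuotientAddGroup.mk (FreeAbelianGroup.of X))) = QuotientAddGroup.mk (FreeAbelianGroup.of X)
  rw [← K0DerSub.clSub_mk X.2, φ_cl H X.2,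
    PerfLocal.clTr_eq_of_iso ((DerivedCategory.singleFunctorIsoCompQ A 0).app X.1).symm (r_zero H)
      (H.obj (cplx_single H 0 X.2)) (r_single H 0 X.2)]
  refine (ψ_Q H (cplx_single H 0 X.2)).trans ((χ_single H 0 X.2).trans ?_)
  simp

lemma clTr_single_mem (k : ℤ) {M : A} (hM : V M) :
    clTr R (DerivedCategory.Q.obj ((single A (ComplexShape.up ℤ) k).obj M)) ∈ (φ H).range := by
  let e : ∀ n : ℤ, ((DerivedCategory.singleFunctor A 0).obj M)⟦n⟧ ≅ (DerivedCategory.singleFunctor A (-n)).obj M :=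
    fun n => ((DerivedCategory.singleFunctors A).shiftIso n (-n) 0 (by lia)).app M
  have h := PerfLocal.clTr_shift_mem (φ H).range (r_zero H) (fun e => H.riso e)
    (fun n => H.riso (e n).symm (r_single H (-n) hM)) ⟨_, φ_cl H hM⟩ (-k)
  rwa [PerfLocal.clTr_eq_of_iso (e (-k) ≪≫ eqToIso (by rw [neg_neg]) ≪≫
    (DerivedCategory.singleFunctorIsoCompQ A k).app M).symm (r_zero H) (H.obj (cplx_single H k hM))
    (H.riso (e (-k)).symm (r_single H _ hM))] at h

lemma clTr_Q_mem {E : CochainComplex A ℤ} (hE : Cplx V E) :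
    clTr R (DerivedCategory.Q.obj E) ∈ (φ H).range := by
  obtain ⟨⟨a, b, hab⟩, hl⟩ := hE
  suffices Cplx V E ∧ clTr R (DerivedCategory.Q.obj E) ∈ (φ H).range from this.2
  refine ProjForm.Stupid.prop_of_bounded E
    (fun C => Cplx V C ∧ clTr R (DerivedCategory.Q.obj C) ∈ (φ H).range) (fun {P P'} e h => ?_) (fun P hP => ?_)
    (fun {S} σ h₁ h₃ => ?_) (fun i hi => hab i (Or.inl hi)) (fun i hi => hab i (Or.inr hi))
    fun i => ⟨cplx_single H i (hl i), clTr_single_mem H i (hl i)⟩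
  · obtain ⟨⟨⟨c, d, hcd⟩, hlP⟩, hm⟩ := h
    have hP' : Cplx V P' := ⟨⟨c, d, fun i hi => (hcd i hi).of_iso (Hom.isoApp e.symm i)⟩,
      fun i => H.iso (Hom.isoApp e i) (hlP i)⟩
    refine ⟨hP', ?_⟩
    rwa [PerfLocal.clTr_eq_of_iso ((DerivedCategory.Q : _ ⥤ DerivedCategory A).mapIso e) (r_zero H)
      (H.obj ⟨⟨c, d, hcd⟩, hlP⟩) (H.obj hP')]
  · have hP' : Cplx V P := ⟨⟨0, 0, fun i _ => (HomologicalComplex.eval A (ComplexShape.up ℤ) i).map_isZero hP⟩,
      fun i => H.zero ((HomologicalComplex.eval A (ComplexShape.up ℤ) i).map_isZero hP)⟩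
    refine ⟨hP', ?_⟩
    rw [PerfLocal.clTr_eq_zero_of_isZero ((DerivedCategory.Q : _ ⥤ DerivedCategory A).map_isZero hP) (H.obj hP')]
    exact zero_mem _
  · obtain ⟨⟨⟨c, d, hcd⟩, hl₁⟩, hm₁⟩ := h₁
    obtain ⟨⟨⟨c', d', hcd'⟩, hl₃⟩, hm₃⟩ := h₃
    have hS : S.ShortExact := HomologicalComplex.shortExact_of_degreewise_shortExact S fun n => (σ n).shortExact
    have h₂ : Cplx V S.X₂ := ⟨⟨min c c', max d d', fun i hi => IsZero.of_iso
      (biprod_isZero_iff _ _ |>.2 ⟨hcd i (by omega), hcd' i (by omega)⟩) (σ i).isoBinaryBiproduct⟩,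
      fun i => H.iso (σ i).isoBinaryBiproduct.symm (H.biprod (hl₁ i) (hl₃ i))⟩
    refine ⟨h₂, ?_⟩
    have := PerfLocal.clTr_add (P := R) _ (DerivedCategory.triangleOfSES_distinguished hS)
      (H.obj ⟨⟨c, d, hcd⟩, hl₁⟩) (H.obj h₂) (H.obj ⟨⟨c', d', hcd'⟩, hl₃⟩)
    change clTr R (DerivedCategory.Q.obj S.X₂) =
      clTr R (DerivedCategory.Q.obj S.X₁) + clTr R (DerivedCategory.Q.obj S.X₃) at this
    rw [this]
    exact add_mem hm₁ hm₃

lemma φ_surjective : Function.Surjective (φ H) := by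
  rw [← AddMonoidHom.range_eq_top]
  refine PerfLocal.clTr_closure_eq_top _ fun K hK => ?_
  obtain ⟨E, hE, ⟨e⟩⟩ := H.rep K hK
  rw [PerfLocal.clTr_eq_of_iso e (r_zero H) (H.obj hE) hK]
  exact clTr_Q_mem H hE

/-- **`K₀(V) ≅ K₀(R)`**, with the Euler characteristic as inverse -/
theorem exists_equiv : ∃ e : K0sub V ≃+ K0tr R,
    (∀ X : A, V X → e (clSub V X) = clTr R ((DerivedCategory.singleFunctor A 0).obj X)) ∧
    ∀ (E : CochainComplex A ℤ) (a b : ℤ), (∀ i, i < a ∨ b < i → IsZero (E.X i)) → (∀ i, V (E.X i)) →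
      e.symm (clTr R (DerivedCategory.Q.obj E)) =
        (Finset.Icc a b).sum fun i => (i.negOnePow : ℤ) • clSub V (E.X i) := by
  let e := AddEquiv.ofBijective (φ H) ⟨Function.LeftInverse.injective (ψφ H), φ_surjective H⟩
  refine ⟨e, fun X hX => φ_cl H hX, fun E a b hab hl => ?_⟩
  rw [AddEquiv.symm_apply_eq]
  obtain ⟨x, hx⟩ := φ_surjective H (clTr R (DerivedCategory.Q.obj E))
  rw [← hx]
  refine congrArg (φ H) ?_
  rw [← ψφ H x, hx, ψ_Q H ⟨⟨a, b, hab⟩, hl⟩, χ]
  refine finsum_eq_sum_of_support_subset _ fun i hi => ?_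
  by_contra hh
  simp only [Finset.coe_Icc, Set.mem_Icc, not_and_or, not_le] at hh
  exact hi (by simp [cl_zero H.zero (hab i hh)])

end Groth.Agent.K0Perf
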