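import Groth.Agent.K0Perf.Instances
import Groth.Agent.DQCoh.AffinePerf

/-!
Finite projective modules and finite locally free sheaves on an affine scheme have the same `K₀`.
-/

set_option autoImplicit false
set_option backward.isDefEq.respectTransparency false
set_option backward.isDefEq.respectTransparency.types false
set_option linter.style.haveILetI false
set_option maxHeartbeats 1000000

universe u

open CategoryTheory Limits AlgebraicGeometry HomologicalComplex
open KZero (clSub K0sub)

attribute [local instance] HasDerivedCategory.standard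

noncomputable section

namespace Groth.Agent.K0Perf

variable (A : Type u) [CommRing A]

/-- vector bundles on `Spec A` -/
abbrev VB : ObjectProperty (Spec (CommRingCat.of A)).Modules := fun M => FlatMod.IsFinLocFree M

local notation "Γf" => moduleSpecΓFunctor (R := CommRingCat.of A)
local notation "tf" => tilde.functor (CommRingCat.of A)

lemma isIso_fromTildeΓ_app {M : (Spec (CommRingCat.of A)).Modules} (h : FlatMod.IsFinLocFree M) :
    IsIso ((Scheme.Modules.fromTildeΓNatTrans (R := CommRingCat.of A)).app M) := by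
  haveI : M.IsQuasicoherent := LocFree.isQCoh_of_isFinLocFree h
  exact Scheme.Modules.isIso_fromTildeΓ_of_isQuasicoherent (R := CommRingCat.of A) M

lemma shortExact_gamma {S : ShortComplex (Spec (CommRingCat.of A)).Modules} (hS : S.ShortExact)
    (h₁ : VB A S.X₁) (h₂ : VB A S.X₂) (h₃ : VB A S.X₃) : (S.map Γf).ShortExact := by
  let ν := Scheme.Modules.fromTildeΓNatTrans (R := CommRingCat.of A)
  let e : ((S.map Γf).map tf) ≅ S :=
    ShortComplex.isoMk (@asIso _ _ _ _ (ν.app _) (isIso_fromTildeΓ_app A h₁))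
      (@asIso _ _ _ _ (ν.app _) (isIso_fromTildeΓ_app A h₂))
      (@asIso _ _ _ _ (ν.app _) (isIso_fromTildeΓ_app A h₃)) (ν.naturality S.f).symm (ν.naturality S.g).symm
  have h := ShortComplex.shortExact_of_iso e.symm hS
  haveI := h.mono_f
  haveI := h.epi_g
  exact { exact := ((S.map Γf).exact_map_iff_of_faithful tf).1 h.exact
          mono_f := (tf).mono_of_mono_map (inferInstanceAs (Mono ((S.map Γf).map tf).f))
          epi_g := (tf).epi_of_epi_map (inferInstanceAs (Epi ((S.map Γf).map tf).g)) }

theorem exists_k0_equiv : ∃ e : K0sub (FP A) ≃+ K0sub (VB A),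
    ∀ M : ModuleCat.{u} A, FP A M → e (clSub (FP A) M) = clSub (VB A) (tilde (R := CommRingCat.of A) M) := by
  let f : K0sub (FP A) →+ K0sub (VB A) := QuotientAddGroup.lift _
    (FreeAbelianGroup.lift fun M => clSub (VB A) ((tf).obj M.1)) (by
      rw [KZero.relSub, AddSubgroup.closure_le]
      rintro _ ⟨S, h₁, h₂, h₃, hS, rfl⟩
      simp only [SetLike.mem_coe, AddMonoidHom.mem_ker, map_sub, FreeAbelianGroup.lift_apply_of]
      rw [sub_sub, sub_eq_zero]
      exact K0DerSub.cl_add (P := VB A) (hS.map_of_exact tf)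
        (DQCoh.isFinLocFree_tilde _ h₁) (DQCoh.isFinLocFree_tilde _ h₂) (DQCoh.isFinLocFree_tilde _ h₃))
  let g : K0sub (VB A) →+ K0sub (FP A) := QuotientAddGroup.lift _
    (FreeAbelianGroup.lift fun M => clSub (FP A) ((Γf).obj M.1)) (by
      rw [KZero.relSub, AddSubgroup.closure_le]
      rintro _ ⟨S, h₁, h₂, h₃, hS, rfl⟩
      simp only [SetLike.mem_coe, AddMonoidHom.mem_ker, map_sub, FreeAbelianGroup.lift_apply_of]
      rw [sub_sub, sub_eq_zero]
      exact K0DerSub.cl_add (P := FP A) (shortExact_gamma A hS h₁ h₂ h₃)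
        (DQCoh.finiteProjective_gamma _ h₁) (DQCoh.finiteProjective_gamma _ h₂) (DQCoh.finiteProjective_gamma _ h₃))
  have hf : ∀ M, FP A M → f (clSub (FP A) M) = clSub (VB A) ((tf).obj M) := fun M hM => by
    rw [K0DerSub.clSub_mk hM]; simp [f]
  have hg : ∀ M, VB A M → g (clSub (VB A) M) = clSub (FP A) ((Γf).obj M) := fun M hM => by
    rw [K0DerSub.clSub_mk hM]; simp [g]
  have hgf : g.comp f = AddMonoidHom.id _ := by
    refine QuotientAddGroup.addMonoidHom_ext _ (FreeAbelianGroup.lift_ext _ _ fun M => ?_)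
    change g (f (QuotientAddGroup.mk (FreeAbelianGroup.of M))) = QuotientAddGroup.mk (FreeAbelianGroup.of M)
    rw [← K0DerSub.clSub_mk M.2, hf _ M.2]
    refine (hg _ (DQCoh.isFinLocFree_tilde _ M.2)).trans ?_
    exact cl_iso (fun h => fp_zero A h) (fun e h => fp_iso A e h)
      ((tilde.toTildeΓNatIso (R := CommRingCat.of A)).app M.1) M.2
  have hfg : f.comp g = AddMonoidHom.id _ := by
    refine QuotientAddGroup.addMonoidHom_ext _ (FreeAbelianGroup.lift_ext _ _ fun M => ?_)
    change f (g (QuotientAddGroup.mk (FreeAbelianGroup.of M))) = QuotientAddGroup.mk (FreeAbelianGroup.of M)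
    rw [← K0DerSub.clSub_mk M.2, hg _ M.2, hf _ (DQCoh.finiteProjective_gamma _ M.2)]
    exact cl_iso (fun h => DQCoh.isFinLocFree_of_isZero h) (fun e h => DQCoh.isFinLocFree_of_iso' e h)
      (@asIso _ _ _ _ _ (isIso_fromTildeΓ_app A M.2)).symm M.2
  exact ⟨{ toFun := f, invFun := g, left_inv := fun x => DFunLike.congr_fun hgf x,
           right_inv := fun x => DFunLike.congr_fun hfg x, map_add' := f.map_add }, hf⟩

end Groth.Agent.K0Perf
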